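import Groth.Agent.AdjLin.K802.HypCanon
import Groth.Agent.AdjLin.K802.ZeroIso
import Groth.Agent.Surf.K455.Canon
import Groth.Agent.Surf.K455.CMInt
import Groth.Agent.Surf.K463.PnTw
import Groth.Agent.Surf.K463.CI2
import Groth.Agent.Vanish.K31.NatRet
import Groth.Agent.Fga.TwistCoh
import Groth.Agent.Dcoh.TensRestr

/-!
# Surfaces in `P³`: monomorphisms `O_X(j) ⟶ O_X(n)` and sections of `O_X(j) ⊗ I`

* `hc_one_pos`: `O_X(1)` has sections.
* `exists_mono`: `O_X(j) ⟶ O_X(n)` mono for `j ≤ n`.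
* `section_eq_zero`: if `O_X(n) ⊗ I` has no section, neither has `O_X(j) ⊗ I`.
* `intNum_O`: `(O(-a).O(-b)) = a b d`.
-/

set_option autoImplicit false
universe u

open CategoryTheory CategoryTheory.Limits AlgebraicGeometry Opposite TopologicalSpace

namespace K149.HypCB

open Groth.Agent Groth.Agent.VarietyB Groth.Agent.Grpsch.PicGrp K464.Base K463.HC K463.RRd K463.PnTw K802.Hyp3
  K802.HypCanon Groth.Agent.Ega2.Tens Groth.Agent.CurvesC Groth.Agent.VarietyB.EulerBinom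

theorem mono_tensor {X : Scheme.{u}} {I A B : X.Modules} (hI : PicF.IsInvertible I) (f : A ⟶ B) [Mono f] :
    Mono ((DCoh.tensorBi.obj I).map f) := by
  have hS : (ShortComplex.mk f (cokernel.π f) (cokernel.condition f)).ShortExact :=
    { exact := ShortComplex.exact_of_g_is_cokernel _ (cokernelIsCokernel f) }
  exact (Fga.TwistCoh.shortExact_tensorBi hI _ hS).mono_f

/-- If `μ : L ⟶ M` is a monomorphism of invertible modules and `M ⊗ I` has no sections, neither has `L ⊗ I`. -/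
theorem section_eq_zero {X : Scheme.{u}} {L M : X.Modules} (hL : PicF.IsInvertible L) (μ : L ⟶ M) [Mono μ]
    (I : X.IdealSheafData) (hvan : ∀ σ : Coh.structureModule X ⟶ CohB1.tensorMod M (ClSub.idealMod I), σ = 0)
    (σ : Coh.structureModule X ⟶ CohB1.tensorMod L (ClSub.idealMod I)) : σ = 0 := by
  have m1 : Mono (ClSub.idealModι I) := inferInstanceAs (Mono (kernel.ι _))
  have m2 : Mono (mapT (𝟙 L) (ClSub.idealModι I)) := by
    have h := mono_tensor hL (ClSub.idealModι I)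
    rwa [Dcoh.TensRestr.tensorBi_obj_map_eq] at h
  have m3 : Mono (mapT μ (𝟙 (Coh.structureModule X))) := by
    have h := K31.NatRet.runit_natural μ
    have h2 : mapT μ (𝟙 (Coh.structureModule X)) = (runit L).hom ≫ μ ≫ (runit M).inv := by
      rw [← Category.assoc, ← h, Category.assoc, Iso.hom_inv_id, Category.comp_id]
    rw [h2]
    infer_instance
  rw [← cancel_mono (mapT (𝟙 L) (ClSub.idealModι I)), ← cancel_mono (mapT μ (𝟙 (Coh.structureModule X)))]
  have h1 : mapT (𝟙 L) (ClSub.idealModι I) ≫ mapT μ (𝟙 (Coh.structureModule X)) =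
      mapT μ (𝟙 (ClSub.idealMod I)) ≫ mapT (𝟙 M) (ClSub.idealModι I) := by
    rw [← mapT_comp, ← mapT_comp, Category.id_comp, Category.comp_id, Category.id_comp, Category.comp_id]
  rw [Category.assoc, h1, ← Category.assoc, hvan (σ ≫ mapT μ (𝟙 _)), zero_comp, zero_comp, zero_comp]

local notation "Sp" k:max => Spec (CommRingCat.of k)

variable (k : Type u) [Field k] {X : Scheme.{u}} [X.Over (Sp k)] [IsIntegral X]
  (ι : X ⟶ CohB1.ProjSpace 3 k) [IsClosedImmersion ι]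
  (hι : ι ≫ CohB1.ProjSpace.toSpec 3 k = X ↘ (Sp k))
  (hdim : topologicalKrullDim X = 2)
  (d : ℤ) (hd : FGA.intNum k X 2 ![O ι (-1), O ι (-1)] (Coh.structureModule X) = d)

include hι hdim hd in
omit [IsIntegral X] in
theorem intNum_O (a b : ℤ) : dot k X (tw k 3 ι (-a)) (tw k 3 ι (-b)) = a * b * d := by
  have := isProper_X ι hι
  rw [intNum_eq_dot k X hdim.le (isInvertible_O ι (-1)) (isInvertible_O ι (-1))] at hd
  change dot k X (tw k 3 ι (-1)) (tw k 3 ι (-1)) = d at hd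
  rw [tw_neg, dot_inv_inv k X hdim.le] at hd
  rw [tw_neg, tw_neg, dot_inv_inv k X hdim.le, tw_eq_pow, tw_eq_pow k 3 ι b, dot_zpow_left k X hdim.le,
    dot_zpow_right k X hdim.le, hd]
  ring

include hι hdim hd in
omit [IsIntegral X] in
theorem deg_pos : 0 < d := by
  have := isProper_X ι hι
  have h1 := intNum_O k ι hι hdim d hd (-1) (-1)
  have h2 := K464.Ample.dot_pos_of_ample k hdim (isInv k 3 ι 1) (isInv k 3 ι 1) (isAmple_one k 3 ι)
    (isAmple_one k 3 ι)
  change 0 < dot k X (tw k 3 ι 1) (tw k 3 ι 1) at h2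
  rw [neg_neg] at h1
  rw [h1] at h2
  linarith

include hι hdim hd in
/-- `O_X(1)` has nonzero sections. -/
theorem hc_one_pos : 0 < hc k X 0 (tw k 3 ι 1) := by
  have := isProper_X ι hι
  have hpos := deg_pos k ι hι hdim d hd
  obtain ⟨e, he⟩ := exists_twist hdim ι
  have h1 := intNum_eq ι hι hdim e he
  rw [hd] at h1
  subst h1
  obtain ⟨S, hS, ⟨e1⟩, ⟨e2⟩, ⟨e3⟩⟩ := exists_seq ι d 1 he
  by_contra hcon
  have h0 : Module.finrank k (Coh.HH X (O ι 1) 0) = 0 := Nat.eq_zero_of_not_pos hcon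
  have hP : IsProper (CohB1.ProjSpace 3 k ↘ (Sp k)) := VarietyB.EulerBinom.isProper_over k 3
  have hT : ∀ m : ℤ, Coh.IsCoh (Twist.twistProjSpace 3 k m) := fun m =>
    isCoh_of_isInvertible k _ (Ega3B.ProjFrame.isInvertible_twistProjSpace 3 k m)
  have hfO : Module.Finite k (Coh.HH X (O ι 1) 0) :=
    S0002.result k X (O ι 1) (isCoh_of_isInvertible k X (isInvertible_O ι 1)) 0
  have hs0 : Subsingleton (Coh.HH X (O ι 1) 0) :=
    Module.finrank_zero_iff.mp h0
  have hs3 : Subsingleton (HV (CohB1.ProjSpace 3 k) S.X₃ 0) := by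
    refine (Fga.PicMon.hmapEquiv k _ e3 0).toEquiv.subsingleton_congr.mpr ?_
    exact (CurveNum.hhPushₗ k ι hι (O ι 1) 0).toEquiv.subsingleton_congr.mp hs0
  have hsurj : Function.Surjective (HV.map k S.f 0) := fun x => HV.exact₂ k hS 0 x (hs3.elim _ _)
  have hfin : Module.Finite k (HV (CohB1.ProjSpace 3 k) S.X₁ 0) :=
    S0002.result k _ S.X₁ (Sga67.CohBasic.isCoh_of_iso e1.symm (hT _)) 0
  have h4 : Module.finrank k (HV (CohB1.ProjSpace 3 k) S.X₂ 0) ≤
      Module.finrank k (HV (CohB1.ProjSpace 3 k) S.X₁ 0) := LinearMap.finrank_le_finrank_of_surjective hsurj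
  have h5 : Module.finrank k (HV (CohB1.ProjSpace 3 k) S.X₂ 0) = 4 := by
    have h6 : Module.finrank k (HV (CohB1.ProjSpace 3 k) S.X₂ 0) =
      Module.finrank k (Coh.HH (CohB1.ProjSpace 3 k) (Twist.twistProjSpace 3 k ((1 : ℕ) : ℤ)) 0) :=
        (Fga.PicMon.hmapEquiv k _ e2 0).finrank_eq
    obtain ⟨g⟩ := S0843.result k 3 1
    rw [h6, g.finrank_eq, finrank_homogeneous, K463.CI2.N_eq]
    rfl
  have h7 : Module.finrank k (HV (CohB1.ProjSpace 3 k) S.X₁ 0) ≤ 1 := by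
    have h6 : Module.finrank k (HV (CohB1.ProjSpace 3 k) S.X₁ 0) =
      Module.finrank k (Coh.HH (CohB1.ProjSpace 3 k) (Twist.twistProjSpace 3 k (1 - d)) 0) :=
        (Fga.PicMon.hmapEquiv k _ e1 0).finrank_eq
    rw [h6]
    rcases (show d = 1 ∨ 1 < d by omega) with rfl | hd1
    · obtain ⟨g⟩ := S0843.result k 3 0
      have h8 : (1 - 1 : ℤ) = ((0 : ℕ) : ℤ) := rfl
      rw [h8, g.finrank_eq, finrank_homogeneous, K463.CI2.N_eq]
      rfl
    · have := S0844.result k 3 (1 - d) 0 (by rintro ⟨-, h⟩; omega) (by rintro ⟨h, -⟩; omega)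
      rw [Module.finrank_zero_of_subsingleton]
      exact Nat.zero_le _
  omega

include hι in
/-- Monomorphisms between twists. -/
theorem exists_mono {L : X.Modules} (hL : PicF.IsInvertible L) {j n : ℤ} (hj : mk L hL = tw k 3 ι j) (hjn : j ≤ n)
    (h1 : 0 < hc k X 0 (tw k 3 ι 1)) : ∃ μ : L ⟶ O ι n, Mono μ := by
  have := isProper_X ι hι
  obtain ⟨E₁, hE₁, hE⟩ := exists_div k h1
  obtain ⟨t, ht⟩ := Int.eq_ofNat_of_zero_le (sub_nonneg.mpr hjn)
  have h2 : mk (ClSub.idealMod (E₁ ^ t)) (Dix.IdealModCartier.isInvertible_idealMod (Divis.EffCartier.isEff_pow hE₁ t)) = tw k 3 ι (-(n - j)) := by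
    have h5 : ic E₁ hE₁ = (tw k 3 ι 1)⁻¹ := by rw [hE, inv_inv]
    change ic (E₁ ^ t) (Divis.EffCartier.isEff_pow hE₁ t) = _
    rw [ic_pow hE₁ t, h5, ht, tw_eq_pow k 3 ι (-(t : ℤ)), zpow_neg, zpow_natCast, inv_pow]
  have h3 : Nonempty (L ≅ CohB1.tensorMod (O ι n) (ClSub.idealMod (E₁ ^ t))) := by
    refine (mk_eq_iff hL (Fdesc.LocGen.isInvertible_tensorMod (isInvertible_O ι n) (Dix.IdealModCartier.isInvertible_idealMod (Divis.EffCartier.isEff_pow hE₁ t)))).mp ?_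
    rw [← mk_mul_mk (isInvertible_O ι n) (Dix.IdealModCartier.isInvertible_idealMod (Divis.EffCartier.isEff_pow hE₁ t)), h2, hj]
    change _ = tw k 3 ι n * tw k 3 ι (-(n - j))
    rw [← tw_add]
    congr 1
    ring
  obtain ⟨f⟩ := h3
  have m1 : Mono (ClSub.idealModι (E₁ ^ t)) := inferInstanceAs (Mono (kernel.ι _))
  have m2 := mono_tensor (isInvertible_O ι n) (ClSub.idealModι (E₁ ^ t))
  have m4 : Mono (runit (O ι n)).hom := @IsIso.mono_of_iso _ _ _ _ _ (runit (O ι n)).isIso_hom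
  have m3 : Mono ((DCoh.tensorBi.obj (O ι n)).map (ClSub.idealModι (E₁ ^ t)) ≫ (runit (O ι n)).hom) :=
    @mono_comp _ _ _ _ _ _ m2 _ m4
  exact ⟨f.hom ≫ ((DCoh.tensorBi.obj (O ι n)).map (ClSub.idealModι (E₁ ^ t)) ≫ (runit (O ι n)).hom),
    @mono_comp _ _ _ _ _ f.hom inferInstance _ m3⟩

end K149.HypCB
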